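import Mathlib
import Groth.Prelude.Def_Magnet4
import Groth.Agent.MagnetHom.Vertex
import Groth.Agent.MagnetHom.CombPts
import Groth.Agent.MagnetHom.Factor
import Groth.Agent.MagnetHom.AttrGlobal
import Groth.Agent.MagnetHom.Homotopy

/-!
Stable opens affine over the base: the part of an attractor lying over them is affine over the base.
-/

set_option autoImplicit false
set_option backward.isDefEq.respectTransparency false
set_option backward.isDefEq.respectTransparency.types false
universe u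

open CategoryTheory CategoryTheory.Limits MonoidalCategory CartesianMonoidalCategory MonObj AlgebraicGeometry Opposite

namespace Groth.Agent.MagnetVB

open Groth.Agent.MagnetHom

noncomputable section

attribute [-instance] AlgebraicGeometry.instGrpObjSpecAsOverSpec AlgebraicGeometry.instCommGrpObjSpecAsOverSpec

variable {S : Scheme.{u}}

/-- The inclusion of an open. -/
abbrev openInc {X : Over S} (V : X.left.Opens) : Over.mk (V.ι ≫ X.hom) ⟶ X := Over.homMk V.ι rfl

theorem exists_restrict {A X : Over S} [MonObj A] (a : Magnet.MonAct A X) (V : X.left.Opens)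
    (hV : (snd A X).left ⁻¹ᵁ V ≤ a.act.left ⁻¹ᵁ V) :
    ∃ b : Magnet.MonAct A (Over.mk (V.ι ≫ X.hom)), Magnet.MonAct.IsEquivariant b a (openInc V) := by
  let Y : Over S := Over.mk (V.ι ≫ X.hom)
  let f : Y ⟶ X := openInc V
  let g := (A ◁ f) ≫ a.act
  have hr : Set.range g.left ⊆ Set.range V.ι := by
    rintro _ ⟨w, rfl⟩
    rw [Scheme.Opens.range_ι, Over.comp_left, Scheme.Hom.comp_apply]
    refine hV ?_
    change (snd A X).left ((A ◁ f).left w) ∈ V
    rw [← Scheme.Hom.comp_apply, ← Over.comp_left, whiskerLeft_snd, Over.comp_left, Scheme.Hom.comp_apply]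
    exact ((snd A Y).left w).2
  let act : A ⊗ Y ⟶ Y := Over.homMk (IsOpenImmersion.lift V.ι g.left hr) (by
    change IsOpenImmersion.lift V.ι g.left hr ≫ V.ι ≫ X.hom = (A ⊗ Y).hom
    rw [IsOpenImmersion.lift_fac_assoc, Over.w g])
  have hact : act ≫ f = g := Over.OverMorphism.ext (IsOpenImmersion.lift_fac _ _ _)
  haveI : Mono f.left := inferInstanceAs (Mono V.ι)
  haveI : Mono f := Over.mono_of_mono_left f
  refine ⟨Magnet.MonAct.mk' act (fun T x => ?_) (fun T p q x => ?_), hact⟩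
  · rw [← cancel_mono f, Category.assoc, hact, lift_whiskerLeft_assoc, a.lift_one_act]
  · rw [← cancel_mono f, Category.assoc, hact, lift_whiskerLeft_assoc, Category.assoc, hact, lift_whiskerLeft_assoc,
      a.lift_mul_act, Category.assoc, hact, lift_whiskerLeft_assoc]

variable {M : Type} [AddCommGroup M] {X : Over S} (a : Magnet.MonAct (Magnet.AMonS S M) X) (N : AddSubmonoid M)

/-- The vertex of a point of the attractor. -/
def vertexOf {T : Over S} (φ : (Magnet.attr a N).obj (op T)) : T ⟶ X :=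
  CartesianMonoidalCategory.lift (toUnit T ≫ vertex N S) (𝟙 T) ≫ φ.1

theorem vertexOf_map {T T' : Over S} (t : T' ⟶ T) (φ : (Magnet.attr a N).obj (op T)) :
    vertexOf a N ((Magnet.attr a N).map t.op φ) = t ≫ vertexOf a N φ := by
  change lift (toUnit T' ≫ vertex N S) (𝟙 T') ≫ (Magnet.AMonS S N ◁ t) ≫ φ.1 =
    t ≫ lift (toUnit T ≫ vertex N S) (𝟙 T) ≫ φ.1
  simp [lift_whiskerLeft_assoc, comp_lift_assoc]

theorem toUnit_vertex_eq (T : Over S) :
    toUnit T ≫ vertex N S = (1 : T ⟶ Magnet.AMonS S (Magnet.unitFace N)) ≫ Magnet.AMonS.faceMap S (Magnet.isFace_unitFace N) := by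
  refine hom_ext_pts fun C _ str r => ?_
  rw [← Category.assoc, comp_toUnit, toUnit_vertex, ← Category.assoc, MonObj.comp_one, ← pt_one]
  refine (pt_faceMap (Magnet.isFace_unitFace N) C str _ _ (fun n h => ?_) (fun n h => ?_)).symm
  · obtain ⟨-, y, hy, hy'⟩ := h
    rw [MonoidHom.one_apply]
    refine vertexChar_apply_unit N C n ?_
    rw [neg_eq_of_add_eq_zero_right hy']
    exact hy
  · refine vertexChar_apply_nonunit N C n fun h' => h ⟨n.2, -(n : M), h', add_neg_cancel _⟩

theorem vertexOf_eq {T : Over S} (φ : (Magnet.attr a N).obj (op T)) :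
    vertexOf a N φ = (Magnet.attrToX a (Magnet.unitFace N)).app (op T)
      ((Magnet.attrFace a (Magnet.isFace_unitFace N)).app (op T) φ) := by
  rw [Magnet.MonAct.eqvHom.evalAt_app, Magnet.attrFace_app_coe, lift_whiskerRight_assoc, vertexOf, ← Hom.one_def,
    toUnit_vertex_eq]

variable (V : X.left.Opens) (hVa : IsAffineHom (V.ι ≫ X.hom))
  (hVs : (snd (Magnet.AMonS S M) X).left ⁻¹ᵁ V ≤ a.act.left ⁻¹ᵁ V)

include hVs in
theorem range_of_vertexOf {T : Over S} (φ : (Magnet.attr a N).obj (op T))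
    (h : ∀ t, (vertexOf a N φ).left t ∈ V) : ∀ w, φ.1.left w ∈ V := by
  obtain ⟨b, hb⟩ := exists_restrict a V hVs
  haveI : IsOpenImmersion (openInc V).left := inferInstanceAs (IsOpenImmersion V.ι)
  intro w
  obtain ⟨y, hy⟩ := range_subset_of_vertex N b a (openInc V) hb φ (by
    rintro _ ⟨t, rfl⟩
    exact ⟨⟨_, h t⟩, rfl⟩) ⟨w, rfl⟩
  rw [← hy]
  exact (show V.toScheme from y).2

include hVa hVs in
/-- The part of a representing object with vertex in `V` is affine over the base. -/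
theorem isAffineHom_vertex_preimage {Z : Over S} (e : (Magnet.attr a N).RepresentableBy Z) :
    IsAffineHom (((vertexOf a N (e.homEquiv (𝟙 Z))).left ⁻¹ᵁ V).ι ≫ Z.hom) := by
  obtain ⟨b, hb⟩ := exists_restrict a V hVs
  let Y : Over S := Over.mk (V.ι ≫ X.hom)
  let f : Y ⟶ X := openInc V
  haveI : IsAffineHom Y.hom := hVa
  haveI : Mono f.left := inferInstanceAs (Mono V.ι)
  haveI : Mono f := Over.mono_of_mono_left f
  obtain ⟨ZY, i, eY, hi, -⟩ := exists_representableBy_attr b N
  let k : ZY ⟶ Z := e.homEquiv.symm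
    ((Magnet.MonAct.eqvHom.postcomp (Magnet.subAct S M N) f hb).app (op ZY) (eY.homEquiv (𝟙 ZY)))
  let v : Z ⟶ X := vertexOf a N (e.homEquiv (𝟙 Z))
  have hv : ∀ {T : Over S} (t : T ⟶ Z), t ≫ v = vertexOf a N (e.homEquiv t) := fun {T} t => by
    rw [← vertexOf_map, ← e.homEquiv_comp, Category.comp_id]
  have hk : ∀ {T : Over S} (t : T ⟶ ZY), (e.homEquiv (t ≫ k)).1 = (eY.homEquiv t).1 ≫ f := fun {T} t => by
    rw [e.homEquiv_comp, Equiv.apply_symm_apply]
    have h := congrArg Subtype.val (eY.homEquiv_comp t (𝟙 ZY))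
    rw [Category.comp_id] at h
    rw [h]
    exact (Category.assoc _ _ _).symm
  have hkinj : Mono k := ⟨fun {T} g h hgh => eY.homEquiv.injective (Subtype.ext ((cancel_mono f).mp (by
    rw [← hk, ← hk, hgh])))⟩
  have hkV : ∀ z, k.left z ∈ v.left ⁻¹ᵁ V := fun z => by
    change v.left (k.left z) ∈ V
    rw [← Scheme.Hom.comp_apply, ← Over.comp_left, hv, vertexOf, ← Category.id_comp k, hk, ← Category.assoc,
      Over.comp_left, Scheme.Hom.comp_apply]
    exact (((lift (toUnit ZY ≫ vertex N S) (𝟙 ZY)) ≫ (eY.homEquiv (𝟙 ZY)).1).left z).2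
  let O := v.left ⁻¹ᵁ V
  let W : Over S := Over.mk (O.ι ≫ Z.hom)
  let w : W ⟶ Z := openInc O
  haveI : Mono w.left := inferInstanceAs (Mono O.ι)
  haveI : Mono w := Over.mono_of_mono_left w
  let k' : ZY ⟶ W := Over.homMk (IsOpenImmersion.lift O.ι k.left (by
    rintro _ ⟨z, rfl⟩
    exact ⟨⟨_, hkV z⟩, rfl⟩)) (by
      change IsOpenImmersion.lift O.ι k.left _ ≫ O.ι ≫ Z.hom = ZY.hom
      rw [IsOpenImmersion.lift_fac_assoc, Over.w k])
  have hk' : k' ≫ w = k := Over.OverMorphism.ext (IsOpenImmersion.lift_fac _ _ _)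
  have hW : ∀ t, ((e.homEquiv w).1).left t ∈ V := range_of_vertexOf a N V hVs _ fun t => by
    rw [← hv, Over.comp_left, Scheme.Hom.comp_apply]
    exact (show W.left from t).2
  have hfac : ∃ m : Magnet.AMonS S N ⊗ W ⟶ Y, m ≫ f = (e.homEquiv w).1 := by
    refine ⟨Over.homMk (IsOpenImmersion.lift V.ι (e.homEquiv w).1.left (by
      rintro _ ⟨t, rfl⟩
      exact ⟨⟨_, hW t⟩, rfl⟩)) ?_, Over.OverMorphism.ext (IsOpenImmersion.lift_fac _ _ _)⟩
    change IsOpenImmersion.lift V.ι _ _ ≫ V.ι ≫ X.hom = _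
    rw [IsOpenImmersion.lift_fac_assoc, Over.w]
  obtain ⟨m, hm⟩ := hfac
  have hmm : Magnet.MonAct.IsEquivariant ((Magnet.subAct S M N).prod (Magnet.MonAct.trivial _ W)) b m := by
    have hφ : Magnet.MonAct.IsEquivariant ((Magnet.subAct S M N).prod (Magnet.MonAct.trivial _ W)) a (e.homEquiv w).1 :=
      (e.homEquiv w).2
    unfold Magnet.MonAct.IsEquivariant at hφ ⊢
    rw [← cancel_mono f, Category.assoc, hm, hφ, Category.assoc, hb, ← MonoidalCategory.whiskerLeft_comp_assoc, hm]
  let l : W ⟶ ZY := eY.homEquiv.symm ⟨m, hmm⟩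
  have hl : l ≫ k = w := e.homEquiv.injective (Subtype.ext (by rw [hk, Equiv.apply_symm_apply, hm]))
  haveI : Mono k := hkinj
  have h1 : l ≫ k' = 𝟙 W := by rw [← cancel_mono w, Category.assoc, hk', hl, Category.id_comp]
  have h2 : k' ≫ l = 𝟙 ZY := by rw [← cancel_mono k, Category.assoc, hl, hk', Category.id_comp]
  haveI : IsIso l := ⟨k', h1, h2⟩
  haveI : IsIso l.left := inferInstanceAs (IsIso ((Over.forget S).map l))
  haveI : IsClosedImmersion i.left := hi
  have e3 : O.ι ≫ Z.hom = (l.left ≫ i.left) ≫ Y.hom := by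
    rw [Category.assoc, Over.w i, Over.w l]
    rfl
  rw [e3]
  infer_instance

end

end Groth.Agent.MagnetVB
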