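import Mathlib
import Groth.Prelude.Def_Magnet4
import Groth.Agent.MagnetHom.Homotopy
import Groth.Agent.MagnetVB.Stable

/-!
The coaction of `A(N)` on an affine open piece of the scheme representing an attractor.
-/

set_option autoImplicit false
set_option backward.isDefEq.respectTransparency false
set_option backward.isDefEq.respectTransparency.types false
universe u

open CategoryTheory CategoryTheory.Limits MonoidalCategory CartesianMonoidalCategory MonObj AlgebraicGeometry Opposite

namespace Groth.Agent.MagnetVB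

open Groth.Agent.MagnetHom

noncomputable section

attribute [local instance 50] algZ
attribute [local instance 10000] Algebra.toModule
attribute [-instance] AlgebraicGeometry.instGrpObjSpecAsOverSpec AlgebraicGeometry.instCommGrpObjSpecAsOverSpec

variable {S : Scheme.{u}} {M : Type} [AddCommGroup M] {X : Over S} (a : Magnet.MonAct (Magnet.AMonS S M) X)
  (N : AddSubmonoid M)

/-- Translation of a point of the attractor by a point of `A(N)`. -/
def translate {T : Over S} (q : T ⟶ Magnet.AMonS S N) (φ : (Magnet.attr a N).obj (op T)) :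
    (Magnet.attr a N).obj (op T) :=
  ⟨lift ((snd (Magnet.AMonS S N) T ≫ q) * fst _ _) (snd _ _) ≫ φ.1, isEquivariant_translate a φ q⟩

theorem translate_map {T T' : Over S} (t : T' ⟶ T) (q : T ⟶ Magnet.AMonS S N) (φ : (Magnet.attr a N).obj (op T)) :
    (Magnet.attr a N).map t.op (translate a N q φ) = translate a N (t ≫ q) ((Magnet.attr a N).map t.op φ) := by
  refine Subtype.ext ?_
  change (Magnet.AMonS S N ◁ t) ≫ lift _ _ ≫ φ.1 = lift _ _ ≫ (Magnet.AMonS S N ◁ t) ≫ φ.1
  refine Magnet.hom_ext_lift₂ fun W b s => ?_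
  simp only [comp_lift_assoc, MonObj.comp_mul, lift_fst, lift_snd, lift_snd_assoc, lift_whiskerLeft_assoc,
    Category.assoc]

theorem translate_translate {T : Over S} (q q' : T ⟶ Magnet.AMonS S N) (φ : (Magnet.attr a N).obj (op T)) :
    translate a N q' (translate a N q φ) = translate a N (q * q') φ := by
  refine Subtype.ext ?_
  change lift _ _ ≫ lift _ _ ≫ φ.1 = lift _ _ ≫ φ.1
  refine Magnet.hom_ext_lift₂ fun W b s => ?_
  simp only [comp_lift_assoc, MonObj.comp_mul, lift_fst, lift_snd, lift_snd_assoc]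
  rw [_root_.mul_assoc]

theorem translate_one {T : Over S} (φ : (Magnet.attr a N).obj (op T)) : translate a N (1 : T ⟶ _) φ = φ := by
  refine Subtype.ext ?_
  change lift _ _ ≫ φ.1 = φ.1
  rw [MonObj.comp_one, _root_.one_mul, lift_fst_snd, Category.id_comp]

theorem translate_vertex {T : Over S} (φ : (Magnet.attr a N).obj (op T)) :
    translate a N (toUnit T ≫ vertex N S) φ =
      (Magnet.attrMap a (Magnet.isFace_unitFace N).le).app (op T)
        ((Magnet.attrFace a (Magnet.isFace_unitFace N)).app (op T) φ) := by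
  refine Subtype.ext ?_
  change lift _ _ ≫ φ.1 = (Magnet.AMonS.map S _ ▷ T) ≫ (Magnet.AMonS.faceMap S (Magnet.isFace_unitFace N) ▷ T) ≫ φ.1
  rw [← comp_whiskerRight_assoc]
  congr 1
  refine Magnet.hom_ext_lift₂ fun W b s => ?_
  rw [lift_whiskerRight, comp_lift, MonObj.comp_mul, lift_snd_assoc, lift_fst, lift_snd]
  congr 1
  refine hom_ext_pts fun C _ str r => ?_
  obtain ⟨p, hp⟩ := exists_eq_pt C str (r ≫ b)
  rw [MonObj.comp_mul, hp, ← Category.assoc r s, ← Category.assoc, comp_toUnit, toUnit_vertex, ← pt_mul,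
    ← Category.assoc r b, hp, ← Category.assoc, pt_map]
  refine (pt_faceMap (Magnet.isFace_unitFace N) C str _ _ (fun n h => ?_) (fun n h => ?_)).symm
  · obtain ⟨-, y, hy, hy'⟩ := h
    rw [MonoidHom.mul_apply, vertexChar_apply_unit N C n (by rw [neg_eq_of_add_eq_zero_right hy']; exact hy),
      _root_.one_mul]
    rfl
  · rw [MonoidHom.mul_apply, vertexChar_apply_nonunit N C n fun h' => h ⟨n.2, -(n : M), h', add_neg_cancel _⟩,
      zero_mul]

theorem comp_pt_of_left {L : Type} [AddCommMonoid L] {C D : Type u} [CommRing C] [CommRing D]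
    {str : Spec (CommRingCat.of C) ⟶ S} {str' : Spec (CommRingCat.of D) ⟶ S} (t : Over.mk str' ⟶ Over.mk str)
    (φ : C →+* D) (ht : t.left = Spec.map (CommRingCat.ofHom φ)) (p : Multiplicative L →* C) :
    t ≫ pt C str p = pt D str' (φ.toMonoidHom.comp p) := by
  have hstr : Spec.map (CommRingCat.ofHom φ) ≫ str = str' := by rw [← ht]; exact Over.w t
  subst hstr
  rw [show t = chg C str D φ from Over.OverMorphism.ext ht]
  exact chg_pt C str D φ p

variable {Z : Over S} (e : (Magnet.attr a N).RepresentableBy Z) {O : Z.left.Opens} (hO : IsAffineOpen O)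
  (hinv : ∀ {T : Over S} (q : T ⟶ Magnet.AMonS S N) (z : T ⟶ Z), (∀ t, z.left t ∈ O) →
    ∀ t, (e.homEquiv.symm (translate a N q (e.homEquiv z))).left t ∈ O)

/-- Evaluation of a polynomial point. -/
abbrev evalPt {B C : Type u} [CommRing B] [CommRing C] (g : B →+* C) (p : Multiplicative N →* C) :
    MonoidAlgebra B (Multiplicative N) →+* C :=
  (MonoidAlgebra.liftNCRingHom (RingHom.id C) p (fun _ _ => Commute.all _ _)).comp
    (MonoidAlgebra.mapRingHom (Multiplicative N) g)

theorem evalPt_single {B C : Type u} [CommRing B] [CommRing C] (g : B →+* C) (p : Multiplicative N →* C)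
    (m : Multiplicative N) (r : B) : evalPt N g p (MonoidAlgebra.single m r) = g r * p m := by
  simp [evalPt]

include hO hinv in
theorem exists_coaction :
    ∃ τ : Γ(Z.left, O) →+* MonoidAlgebra Γ(Z.left, O) (Multiplicative N),
      ∀ (C : Type u) [CommRing C] (str : Spec (CommRingCat.of C) ⟶ S) (z : Over.mk str ⟶ Z) (g : Γ(Z.left, O) →+* C),
        z.left = Spec.map (CommRingCat.ofHom g) ≫ hO.fromSpec → ∀ p : Multiplicative N →* C,
        (e.homEquiv.symm (translate a N (pt C str p) (e.homEquiv z))).left =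
          Spec.map (CommRingCat.ofHom ((evalPt N g p).comp τ)) ≫ hO.fromSpec := by
  let B : Type u := Γ(Z.left, O)
  let strB : Spec (CommRingCat.of B) ⟶ S := hO.fromSpec ≫ Z.hom
  let u : Over.mk strB ⟶ Z := Over.homMk hO.fromSpec rfl
  let strU := Spec.map (CommRingCat.ofHom (MonoidAlgebra.singleOneRingHom : B →+* GA B N)) ≫ strB
  let pr : Over.mk strU ⟶ Over.mk strB := chg B strB (GA B N) MonoidAlgebra.singleOneRingHom
  let qU : Over.mk strU ⟶ Magnet.AMonS S N := pt (GA B N) strU (MonoidAlgebra.of B (Multiplicative N))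
  let zU : Over.mk strU ⟶ Z := e.homEquiv.symm (translate a N qU (e.homEquiv (pr ≫ u)))
  have hr : Set.range zU.left ⊆ Set.range hO.fromSpec := by
    rintro _ ⟨t, rfl⟩
    rw [IsAffineOpen.range_fromSpec]
    refine hinv qU (pr ≫ u) (fun t' => ?_) t
    rw [← SetLike.mem_coe, ← IsAffineOpen.range_fromSpec hO, Over.comp_left, Scheme.Hom.comp_apply]
    exact ⟨_, rfl⟩
  refine ⟨(Spec.preimage (IsOpenImmersion.lift hO.fromSpec zU.left hr)).hom, fun C _ str z g hz p => ?_⟩
  let h : GA B N →+* C := evalPt N g p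
  have hh : h.comp MonoidAlgebra.singleOneRingHom = g := by ext b; simp [h]
  let t : Over.mk str ⟶ Over.mk strU := Over.homMk (Spec.map (CommRingCat.ofHom h)) (by
    change Spec.map (CommRingCat.ofHom h) ≫ Spec.map _ ≫ hO.fromSpec ≫ Z.hom = str
    rw [← Spec.map_comp_assoc, ← CommRingCat.ofHom_comp, hh, ← Category.assoc, ← hz]
    exact Over.w z)
  have ht : t ≫ pr ≫ u = z := Over.OverMorphism.ext (by
    change Spec.map (CommRingCat.ofHom h) ≫ Spec.map _ ≫ hO.fromSpec = z.left
    rw [← Spec.map_comp_assoc, ← CommRingCat.ofHom_comp, hh, hz])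
  have hq : t ≫ qU = pt C str p := by
    rw [comp_pt_of_left t h rfl]
    congr 1
    ext n
    simp [h]
  have key : e.homEquiv.symm (translate a N (pt C str p) (e.homEquiv z)) = t ≫ zU := by
    rw [Equiv.symm_apply_eq, e.homEquiv_comp, Equiv.apply_symm_apply, translate_map, hq, ← e.homEquiv_comp, ht]
  rw [key, CommRingCat.ofHom_comp, Spec.map_comp, Category.assoc, CommRingCat.ofHom_hom, Spec.map_preimage,
    IsOpenImmersion.lift_fac]
  rfl

theorem hom_ext_of_fromSpec {C : Type u} [CommRing C] {g g' : Γ(Z.left, O) →+* C}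
    (h : Spec.map (CommRingCat.ofHom g) ≫ hO.fromSpec = Spec.map (CommRingCat.ofHom g') ≫ hO.fromSpec) : g = g' :=
  congrArg CommRingCat.Hom.hom (Spec.map_injective ((cancel_mono hO.fromSpec).mp h))

section Properties

variable {τ : Γ(Z.left, O) →+* MonoidAlgebra Γ(Z.left, O) (Multiplicative N)}
  (hτ : ∀ (C : Type u) [CommRing C] (str : Spec (CommRingCat.of C) ⟶ S) (z : Over.mk str ⟶ Z) (g : Γ(Z.left, O) →+* C),
    z.left = Spec.map (CommRingCat.ofHom g) ≫ hO.fromSpec → ∀ p : Multiplicative N →* C,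
    (e.homEquiv.symm (translate a N (pt C str p) (e.homEquiv z))).left =
      Spec.map (CommRingCat.ofHom ((evalPt N g p).comp τ)) ≫ hO.fromSpec)

/-- The tautological point of the open piece. -/
abbrev pieceInc : Over.mk (hO.fromSpec ≫ Z.hom) ⟶ Z := Over.homMk hO.fromSpec rfl

include hτ in
theorem counit :
    (MonoidAlgebra.liftNCRingHom (RingHom.id Γ(Z.left, O)) (1 : Multiplicative N →* Γ(Z.left, O))
      (fun _ _ => Commute.all _ _)).comp τ = RingHom.id _ := by
  have hz : (pieceInc hO).left = Spec.map (CommRingCat.ofHom (RingHom.id Γ(Z.left, O))) ≫ hO.fromSpec := by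
    erw [CommRingCat.ofHom_id, Spec.map_id, Category.id_comp]; rfl
  have h := hτ _ _ (pieceInc hO) (RingHom.id _) hz 1
  rw [MagnetHom.pt_one, translate_one, Equiv.symm_apply_apply, hz] at h
  have h2 := hom_ext_of_fromSpec hO h
  conv_rhs => rw [h2]
  congr 1
  refine MonoidAlgebra.ringHom_ext (fun r => ?_) (fun n => ?_) <;> simp

include hτ in
theorem vertex_eq (j : Z ⟶ Z)
    (hj : e.homEquiv j = translate a N (toUnit Z ≫ vertex N S) (e.homEquiv (𝟙 Z)))
    (ρ : Γ(Z.left, O) →+* Γ(Z.left, O)) (hρ : hO.fromSpec ≫ j.left = Spec.map (CommRingCat.ofHom ρ) ≫ hO.fromSpec)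
    (b : Γ(Z.left, O)) :
    ρ b = MonoidAlgebra.liftNCRingHom (RingHom.id Γ(Z.left, O)) (vertexChar N Γ(Z.left, O))
      (fun _ _ => Commute.all _ _) (τ b) := by
  have hz : (pieceInc hO).left = Spec.map (CommRingCat.ofHom (RingHom.id Γ(Z.left, O))) ≫ hO.fromSpec := by
    erw [CommRingCat.ofHom_id, Spec.map_id, Category.id_comp]; rfl
  have h := hτ _ _ (pieceInc hO) (RingHom.id _) hz (vertexChar N Γ(Z.left, O))
  have e1 : e.homEquiv.symm (translate a N (pt Γ(Z.left, O) (hO.fromSpec ≫ Z.hom) (vertexChar N Γ(Z.left, O)))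
      (e.homEquiv (pieceInc hO))) = pieceInc hO ≫ j := by
    rw [Equiv.symm_apply_eq, e.homEquiv_comp, hj, translate_map, ← e.homEquiv_comp, Category.comp_id,
      ← Category.assoc, comp_toUnit, toUnit_vertex]
  rw [e1, Over.comp_left] at h
  have h2 := hom_ext_of_fromSpec hO (hρ.symm.trans h)
  rw [h2]
  simp [evalPt]

include hτ in
theorem coassoc (b : Γ(Z.left, O)) (n : Multiplicative N) :
    τ ((τ b).coeff n) = MonoidAlgebra.single n ((τ b).coeff n) := by
  let B : Type u := Γ(Z.left, O)
  let E := GA (GA B N) N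
  let c₁ : B →+* GA B N := MonoidAlgebra.singleOneRingHom
  let c₂ : GA B N →+* E := MonoidAlgebra.singleOneRingHom
  let c : B →+* E := c₂.comp c₁
  let str : Spec (CommRingCat.of E) ⟶ S := Spec.map (CommRingCat.ofHom c) ≫ hO.fromSpec ≫ Z.hom
  let z : Over.mk str ⟶ Z := Over.homMk (Spec.map (CommRingCat.ofHom c) ≫ hO.fromSpec) (Category.assoc _ _ _)
  let p : Multiplicative N →* E := c₂.toMonoidHom.comp (MonoidAlgebra.of B (Multiplicative N))
  let p' : Multiplicative N →* E := MonoidAlgebra.of (GA B N) (Multiplicative N)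
  let g₁ : B →+* E := (evalPt N c p).comp τ
  let z₁ : Over.mk str ⟶ Z := e.homEquiv.symm (translate a N (pt E str p) (e.homEquiv z))
  have h₁ : z₁.left = Spec.map (CommRingCat.ofHom g₁) ≫ hO.fromSpec := hτ E str z c rfl p
  have h₂ := hτ E str z₁ g₁ h₁ p'
  have h₃ := hτ E str z c rfl (p * p')
  rw [show e.homEquiv z₁ = translate a N (pt E str p) (e.homEquiv z) from Equiv.apply_symm_apply _ _,
    translate_translate, ← pt_mul, h₃] at h₂
  have h := RingHom.congr_fun (hom_ext_of_fromSpec hO h₂) b
  have hg₁ : g₁ = c₂.comp τ := by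
    have : evalPt N c p = c₂ := MonoidAlgebra.ringHom_ext
      (fun r => by rw [evalPt_single, map_one, _root_.mul_one]; rfl)
      (fun m => by rw [evalPt_single, map_one, _root_.one_mul]; rfl)
    simp only [g₁, this]
  have hL : ((evalPt N c (p * p')).comp τ b).coeff n = MonoidAlgebra.single n ((τ b).coeff n) := by
    change (evalPt N c (p * p') (τ b)).coeff n = _
    induction τ b using MonoidAlgebra.induction_linear with
    | zero => simp
    | add x y hx hy => rw [map_add, MonoidAlgebra.coeff_add, Finsupp.add_apply, hx, hy, MonoidAlgebra.coeff_add,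
        Finsupp.add_apply, MonoidAlgebra.single_add]
    | single m r =>
      rw [evalPt_single]
      change ((MonoidAlgebra.single 1 (MonoidAlgebra.single 1 r) : E) *
        (MonoidAlgebra.single 1 (MonoidAlgebra.single m 1) * MonoidAlgebra.single m 1)).coeff n = _
      simp only [MonoidAlgebra.single_mul_single, _root_.one_mul, _root_.mul_one, MonoidAlgebra.coeff_single]
      by_cases hm : m = n
      · subst hm; rw [Finsupp.single_eq_same, Finsupp.single_eq_same]
      · rw [Finsupp.single_eq_of_ne (Ne.symm hm), Finsupp.single_eq_of_ne (Ne.symm hm), MonoidAlgebra.single_zero]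
  have hR : ((evalPt N g₁ p').comp τ b).coeff n = τ ((τ b).coeff n) := by
    rw [hg₁]
    change (evalPt N (c₂.comp τ) p' (τ b)).coeff n = _
    induction τ b using MonoidAlgebra.induction_linear with
    | zero => simp
    | add x y hx hy => rw [map_add, MonoidAlgebra.coeff_add, Finsupp.add_apply, hx, hy, MonoidAlgebra.coeff_add,
        Finsupp.add_apply, map_add]
    | single m r =>
      rw [evalPt_single]
      change ((MonoidAlgebra.single 1 (τ r) : E) * MonoidAlgebra.single m 1).coeff n = _
      simp only [MonoidAlgebra.single_mul_single, _root_.one_mul, _root_.mul_one, MonoidAlgebra.coeff_single]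
      by_cases hm : m = n
      · subst hm; rw [Finsupp.single_eq_same, Finsupp.single_eq_same]
      · rw [Finsupp.single_eq_of_ne (Ne.symm hm), Finsupp.single_eq_of_ne (Ne.symm hm), map_zero]
  rw [← hR, ← hL, h]

include hτ in
theorem base_eq {S₀ : S.Opens} (hS₀ : IsAffineOpen S₀) (le : O ≤ Z.hom ⁻¹ᵁ S₀) (r : Γ(S, S₀)) :
    τ ((Z.hom.appLE S₀ O le) r) = MonoidAlgebra.single 1 ((Z.hom.appLE S₀ O le) r) := by
  let B : Type u := Γ(Z.left, O)
  let E := GA B N
  let c : B →+* E := MonoidAlgebra.singleOneRingHom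
  let str : Spec (CommRingCat.of E) ⟶ S := Spec.map (CommRingCat.ofHom c) ≫ hO.fromSpec ≫ Z.hom
  let z : Over.mk str ⟶ Z := Over.homMk (Spec.map (CommRingCat.ofHom c) ≫ hO.fromSpec) (Category.assoc _ _ _)
  let p : Multiplicative N →* E := MonoidAlgebra.of B (Multiplicative N)
  have h := hτ E str z c rfl p
  have hw := Over.w (e.homEquiv.symm (translate a N (pt E str p) (e.homEquiv z)))
  rw [h] at hw
  have hτc : (evalPt N c p).comp τ = τ := by
    have : evalPt N c p = RingHom.id _ := MonoidAlgebra.ringHom_ext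
      (fun r => by rw [evalPt_single, map_one, _root_.mul_one]; rfl)
      (fun m => by rw [evalPt_single, map_one, _root_.one_mul]; rfl)
    rw [this, RingHom.id_comp]
  rw [hτc, Category.assoc] at hw
  have hs := IsAffineOpen.SpecMap_appLE_fromSpec Z.hom hS₀ hO le
  change _ = Spec.map (CommRingCat.ofHom c) ≫ hO.fromSpec ≫ Z.hom at hw
  rw [← hs, ← Spec.map_comp_assoc, ← Spec.map_comp_assoc, cancel_mono] at hw
  exact RingHom.congr_fun (congrArg CommRingCat.Hom.hom (Spec.map_injective hw)) r

end Properties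

end

end Groth.Agent.MagnetVB
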