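import Mathlib
import Groth.Agent.DiagMonSym.Graded

/-!
Homogeneous lifts of the conormal module, over an abstract degree-zero ring.
-/

set_option autoImplicit false

universe u

noncomputable section

namespace Groth.Agent.MagnetVB

open DirectSum Groth.Agent.DiagMonSym

variable {R A S : Type u} [CommRing R] [CommRing A] [Algebra R A] [CommRing S] [Algebra S A]
  {N : Type} [AddCommMonoid N] [DecidableEq N] [IsCancelAdd N]
  (hsharp : ∀ n : N, IsAddUnit n → n = 0) (𝒜 : N → Submodule R A) [GradedAlgebra 𝒜]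
  (hmem : ∀ c : S, algebraMap S A c ∈ 𝒜 0) (ε : A →ₐ[S] S)
  (hε : ∀ a, algebraMap S A (ε a) = pr 𝒜 0 a)

/-- Homogeneous components, linear over the base. -/
def prS {𝒜 : N → Submodule R A} [GradedAlgebra 𝒜] (hmem : ∀ c : S, algebraMap S A c ∈ 𝒜 0) (n : N) : A →ₗ[S] A where
  toFun := pr 𝒜 n
  map_add' := map_add _
  map_smul' c a := by
    have h := (pr 𝒜 n).map_smul (⟨algebraMap S A c, hmem c⟩ : 𝒜 0) a
    simp only [Algebra.smul_def, RingHom.id_apply] at h ⊢
    exact h

include hε in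
theorem mem_aug_iff (a : A) : a ∈ aug (ε) ↔ pr 𝒜 0 a = 0 :=
  RingHom.mem_ker.trans ⟨fun h => by rw [← hε, h, map_zero],
    fun h => by simpa [h] using congrArg ε (hε a)⟩

include hε in
theorem mem_aug_of_mem {i : N} {a : A} (ha : a ∈ 𝒜 i) (hi : i ≠ 0) : a ∈ aug (ε) :=
  (mem_aug_iff 𝒜 ε hε a).mpr (pr_of_mem_ne 𝒜 ha hi)

omit [IsCancelAdd N] in
theorem sum_pr (a : A) [∀ (i) (x : 𝒜 i), Decidable (x ≠ 0)] :
    ∑ i ∈ (decompose 𝒜 a).support, pr 𝒜 i a = a :=
  DirectSum.sum_support_decompose 𝒜 a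

include hε in
/-- Induction on the square of the augmentation ideal. -/
theorem sq_induction (C : A → Prop) (h0 : C 0) (hadd : ∀ x y, C x → C y → C (x + y))
    (hmul : ∀ i j (x : A), x ∈ 𝒜 i → ∀ y ∈ 𝒜 j, i ≠ 0 → j ≠ 0 → C (x * y))
    {a : A} (ha : a ∈ aug (ε) ^ 2) : C a := by
  classical
  rw [pow_two] at ha
  refine Submodule.mul_induction_on ha (fun x hx y hy => ?_) hadd
  rw [← sum_pr 𝒜 x, ← sum_pr 𝒜 y, Finset.sum_mul_sum]
  refine Finset.sum_induction _ C hadd h0 fun i _ => Finset.sum_induction _ C hadd h0 fun j _ => ?_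
  by_cases hi : i = 0
  · rw [hi, (mem_aug_iff 𝒜 ε hε x).mp hx, zero_mul]; exact h0
  by_cases hj : j = 0
  · rw [hj, (mem_aug_iff 𝒜 ε hε y).mp hy, mul_zero]; exact h0
  exact hmul i j _ (pr_mem 𝒜 i x) _ (pr_mem 𝒜 j y) hi hj

include hε in
theorem pr_mem_sq (n : N) {a : A} (ha : a ∈ aug (ε) ^ 2) :
    pr 𝒜 n a ∈ aug (ε) ^ 2 := by
  refine sq_induction 𝒜 ε hε (fun z => pr 𝒜 n z ∈ aug (ε) ^ 2) ?_ ?_ ?_ ha
  · rw [map_zero]; exact zero_mem _
  · intro x y hx hy; rw [map_add]; exact add_mem hx hy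
  · intro i j x hx y hy hi hj
    by_cases h : i + j = n
    · rw [pr_of_mem 𝒜 (h ▸ SetLike.GradedMul.mul_mem hx hy), pow_two]
      exact Ideal.mul_mem_mul (mem_aug_of_mem 𝒜 ε hε hx hi) (mem_aug_of_mem 𝒜 ε hε hy hj)
    · rw [pr_of_mem_ne 𝒜 (SetLike.GradedMul.mul_mem hx hy) h]; exact zero_mem _

include hε hsharp hmem in
theorem exists_lift [AddMonoid.FG N] [Module.Projective S (aug (ε)).Cotangent] :
    ∃ s : (aug (ε)).Cotangent →ₗ[S] A,
      (∀ p, s p ∈ aug (ε)) ∧ (∀ p, lin (ε) (s p) = p) ∧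
        Function.Surjective (SymmetricAlgebra.lift s) := by
  classical
  obtain ⟨s₀, hs₀⟩ := Module.projective_lifting_property (lin ε) LinearMap.id (lin_surjective ε)
  have hs₀' : ∀ p, lin ε (s₀ p) = p := fun p => LinearMap.congr_fun hs₀ p
  let T₀ : A →+ A :=
    (DirectSum.toAddMonoid fun n => ((prS hmem n ∘ₗ s₀ ∘ₗ lin ε).toAddMonoidHom.comp (𝒜 n).subtype.toAddMonoidHom)).comp
      (decomposeAddEquiv 𝒜).toAddMonoidHom
  have hT : ∀ n, ∀ x ∈ 𝒜 n, T₀ x = pr 𝒜 n (s₀ (lin ε x)) := fun n x hx => by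
    simp only [T₀, AddMonoidHom.comp_apply, AddEquiv.coe_toAddMonoidHom, decomposeAddEquiv_apply]
    rw [show decompose 𝒜 x = DirectSum.of (fun i => 𝒜 i) n ⟨x, hx⟩ from decompose_coe 𝒜 ⟨x, hx⟩, toAddMonoid_of]
    rfl
  let T : A →ₗ[S] A :=
    { toFun := T₀
      map_add' := T₀.map_add
      map_smul' := fun c a => by
        rw [RingHom.id_apply]
        induction a using DirectSum.Decomposition.inductionOn 𝒜 with
        | zero => rw [smul_zero, map_zero, smul_zero]
        | add x y hx hy => rw [smul_add, map_add, hx, hy, map_add, smul_add]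
        | homogeneous x =>
          rename_i i
          have hm : c • (x : A) ∈ 𝒜 i := by
            rw [Algebra.smul_def]
            have := SetLike.GradedMul.mul_mem (A := 𝒜) (hmem c) x.2
            rwa [zero_add] at this
          rw [hT i _ hm, hT i _ x.2, map_smul, map_smul]
          exact (prS hmem i).map_smul c _ }
  have hlin0 : ∀ x ∈ 𝒜 0, lin ε x = 0 := fun x hx => by
    have hx' : x = algebraMap S A (ε x) := by rw [hε, pr_of_mem 𝒜 hx]
    rw [hx', lin_algebraMap]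
  have hTlin : ∀ a, lin ε (T a) = lin ε a := by
    intro a
    induction a using DirectSum.Decomposition.inductionOn 𝒜 with
    | zero => simp
    | add x y hx hy => simp only [map_add, hx, hy]
    | homogeneous x =>
      rename_i i
      change lin ε (T₀ x) = _
      rw [hT i _ x.2]
      by_cases hi : i = 0
      · subst hi
        rw [hlin0 _ x.2, map_zero, map_zero, map_zero]
      · have hxm : (x : A) ∈ aug ε := mem_aug_of_mem 𝒜 ε hε x.2 hi
        let y := s₀ (lin ε x) - algebraMap S A (ε (s₀ (lin ε x)))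
        have hy : pr 𝒜 i y = pr 𝒜 i (s₀ (lin ε x)) := by
          rw [map_sub, pr_of_mem_ne 𝒜 (n := i) (hmem (ε (s₀ (lin ε x)))) (Ne.symm hi), sub_zero]
        have hyl : lin ε y = lin ε x := by rw [map_sub, hs₀', lin_algebraMap, sub_zero]
        have hdiff : y - (x : A) ∈ aug ε ^ 2 := by
          exact (Ideal.toCotangent_eq (aug ε)).mp
            ((lin_of_mem ε (sub_mem_aug ε _)).symm.trans (hyl.trans (lin_of_mem ε hxm)))
        have h2 := lin_eq_zero_of_mem_sq ε (pr_mem_sq 𝒜 ε hε i hdiff)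
        rw [map_sub, map_sub, hy, pr_of_mem 𝒜 x.2, sub_eq_zero] at h2
        exact h2
  have hTI : ∀ a, T a ∈ aug ε := by
    intro a
    induction a using DirectSum.Decomposition.inductionOn 𝒜 with
    | zero => rw [map_zero]; exact zero_mem _
    | add x y hx hy => rw [map_add]; exact add_mem hx hy
    | homogeneous x =>
      rename_i i
      change T₀ x ∈ _
      rw [hT i _ x.2]
      by_cases hi : i = 0
      · subst hi
        rw [hlin0 _ x.2, map_zero, map_zero]
        exact zero_mem _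
      · exact mem_aug_of_mem 𝒜 ε hε (pr_mem 𝒜 i _) hi
  let s := T ∘ₗ s₀
  have hsec : ∀ p, lin ε (s p) = p := fun p => (hTlin _).trans (hs₀' p)
  refine ⟨s, fun p => hTI _, hsec, ?_⟩
  have hhom : ∀ n, n ≠ 0 → ∀ x ∈ 𝒜 n, s (lin ε x) ∈ 𝒜 n := by
    intro n hn x hx
    let b := s₀ (lin ε x)
    have hbx : b - algebraMap S A (ε b) - x ∈ aug ε ^ 2 := by
      have h : lin ε (b - algebraMap S A (ε b)) = lin ε x := by
        rw [map_sub, hs₀', lin_algebraMap, sub_zero]
      exact (Ideal.toCotangent_eq (aug ε)).mp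
        ((lin_of_mem ε (sub_mem_aug ε b)).symm.trans (h.trans (lin_of_mem ε (mem_aug_of_mem 𝒜 ε hε hx hn))))
    change T b ∈ 𝒜 n
    rw [← sum_pr 𝒜 b, map_sum]
    refine Submodule.sum_mem _ fun m _ => ?_
    change T₀ (pr 𝒜 m b) ∈ 𝒜 n
    rw [hT m _ (pr_mem 𝒜 m b)]
    by_cases hmn : m = n
    · rw [hmn]; exact pr_mem 𝒜 n _
    · have hz : lin ε (pr 𝒜 m b) = 0 := by
        by_cases hm0 : m = 0
        · exact hlin0 _ (hm0 ▸ pr_mem 𝒜 m b)
        · have h2 := lin_eq_zero_of_mem_sq ε (pr_mem_sq 𝒜 ε hε m hbx)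
          rwa [map_sub, map_sub, pr_of_mem_ne 𝒜 hx (Ne.symm hmn), 
            map_sub, pr_of_mem_ne 𝒜 (n := m) (hmem (ε b)) (Ne.symm hm0), sub_zero, map_zero, sub_zero] at h2
      rw [hz, map_zero, map_zero]
      exact zero_mem _
  obtain ⟨d, hd⟩ := exists_sharp_height N hsharp
  let φ := SymmetricAlgebra.lift s
  have main : ∀ k, ∀ n, d n = k → ∀ x ∈ 𝒜 n, x ∈ φ.range := by
    intro k
    induction k using Nat.strong_induction_on with
    | _ k ih =>
      intro n hnk x hx
      by_cases hn : n = 0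
      · subst hn
        rw [show x = algebraMap S A (ε x) by rw [hε, pr_of_mem 𝒜 hx]]
        exact φ.range.algebraMap_mem _
      have hxm := mem_aug_of_mem 𝒜 ε hε hx hn
      have hz : x - s (lin ε x) ∈ aug ε ^ 2 := by
        have h : lin ε x = lin ε (s (lin ε x)) := (hsec _).symm
        exact (Ideal.toCotangent_eq (aug ε)).mp
          ((lin_of_mem ε hxm).symm.trans (h.trans (lin_of_mem ε (a := s (lin ε x)) (hTI _))))
      have hzn : x - s (lin ε x) ∈ 𝒜 n := sub_mem hx (hhom n hn x hx)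
      have key : pr 𝒜 n (x - s (lin ε x)) ∈ φ.range := by
        refine sq_induction 𝒜 ε hε (fun z => pr 𝒜 n z ∈ φ.range) ?_ ?_ ?_ hz
        · rw [map_zero]; exact zero_mem _
        · intro a b ha hb; rw [map_add]; exact add_mem ha hb
        · intro i j a ha b hb hi hj
          by_cases h : i + j = n
          · rw [pr_of_mem 𝒜 (h ▸ SetLike.GradedMul.mul_mem ha hb)]
            have hdi : d i ≠ 0 := fun e => hi (hd i e)
            have hdj : d j ≠ 0 := fun e => hj (hd j e)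
            have hsum : d i + d j = k := by rw [← map_add, h, hnk]
            exact mul_mem (ih (d i) (by omega) i rfl a ha) (ih (d j) (by omega) j rfl b hb)
          · rw [pr_of_mem_ne 𝒜 (SetLike.GradedMul.mul_mem ha hb) h]; exact zero_mem _
      rw [pr_of_mem 𝒜 hzn] at key
      have hs' : s (lin ε x) ∈ φ.range := ⟨SymmetricAlgebra.ι _ _ (lin ε x), SymmetricAlgebra.lift_ι_apply _ _⟩
      simpa using add_mem key hs'
  intro a
  have ha : a ∈ φ.range := by
    rw [← sum_pr 𝒜 a]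
    exact sum_mem fun i _ => main (d i) i rfl _ (pr_mem 𝒜 i a)
  exact ha

end Groth.Agent.MagnetVB

end
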