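import Mathlib
import Groth.Agent.MagnetVB.GradedBase
import Groth.Agent.MagnetHom.Vertex

/-!
A smooth algebra with a coaction of `A(N)` is a symmetric algebra over its fixed subalgebra.
-/

set_option autoImplicit false

universe u

noncomputable section

namespace Groth.Agent.MagnetVB

open DirectSum Groth.Agent.DiagMonSym

variable {M : Type} [AddCommGroup M] (N : AddSubmonoid M)

theorem exists_symmetricAlgebra (Z : AddSubgroup M) (hZ : ∀ m, m ∈ Z ↔ m ∈ N ∧ -m ∈ N)
    {R B₀ B : Type u} [CommRing R] [CommRing B₀] [CommRing B] [Algebra R B₀] [Algebra R B] [Algebra B₀ B]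
    [IsScalarTower R B₀ B] [Algebra.FormallySmooth R B] [Algebra.FinitePresentation R B]
    (τ : B →+* MonoidAlgebra B (Multiplicative N))
    (hcounit : (MonoidAlgebra.liftNCRingHom (RingHom.id B) (1 : Multiplicative N →* B)
      (fun _ _ => Commute.all _ _)).comp τ = RingHom.id B)
    (hcoassoc : ∀ b n, τ ((τ b).coeff n) = MonoidAlgebra.single n ((τ b).coeff n))
    (hR : ∀ r : R, τ (algebraMap R B r) = MonoidAlgebra.single 1 (algebraMap R B r))
    (σ : B →ₐ[B₀] B₀)
    (hvert : ∀ b, algebraMap B₀ B (σ b) = MonoidAlgebra.liftNCRingHom (RingHom.id B)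
      (MagnetHom.vertexChar N B) (fun _ _ => Commute.all _ _) (τ b)) :
    ∃ (P : Type u) (_ : AddCommGroup P) (_ : Module B₀ P),
      Module.Finite B₀ P ∧ Module.Projective B₀ P ∧ Nonempty (B ≃ₐ[B₀] SymmetricAlgebra B₀ P) := by
  classical
  let π : N →+ M ⧸ Z := (QuotientAddGroup.mk' Z).comp N.subtype
  let τQ : B →+* MonoidAlgebra B (Multiplicative (M ⧸ Z)) :=
    (MonoidAlgebra.mapDomainRingHom B (AddMonoidHom.toMultiplicative π)).comp τ
  -- the degrees of finitely many generators
  obtain ⟨t, ht⟩ := Algebra.FiniteType.out (R := R) (A := B)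
  let D : Finset (M ⧸ Z) := t.biUnion fun b => (τQ b).coeff.support.image Multiplicative.toAdd
  let N' : AddSubmonoid (M ⧸ Z) := AddSubmonoid.closure (D : Set (M ⧸ Z))
  haveI : AddMonoid.FG N' := (AddMonoid.fg_iff_addSubmonoid_fg N').mpr ⟨D, rfl⟩
  have hDN : (D : Set (M ⧸ Z)) ⊆ AddMonoidHom.mrange π := by
    intro q hq
    obtain ⟨b, -, hb⟩ := Finset.mem_biUnion.mp hq
    obtain ⟨q', hq', rfl⟩ := Finset.mem_image.mp hb
    have : q' ∈ Finset.image (AddMonoidHom.toMultiplicative π) (τ b).coeff.support :=
      Finsupp.mapDomain_support hq'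
    obtain ⟨n, -, rfl⟩ := Finset.mem_image.mp this
    exact ⟨Multiplicative.toAdd n, rfl⟩
  have hZN : ∀ x y : N, ((x : M) + y) ∈ Z → (x : M) ∈ Z := fun x y h => by
    refine (hZ _).mpr ⟨x.2, ?_⟩
    have := N.add_mem ((hZ _).mp h).2 y.2
    rwa [neg_add, add_assoc, neg_add_cancel, add_zero] at this
  have hker : ∀ n : N, π n = 0 ↔ -(n : M) ∈ N := fun n => by
    change ((n : M) : M ⧸ Z) = 0 ↔ _
    rw [QuotientAddGroup.eq_zero_iff, hZ]
    exact and_iff_right n.2
  have hsharp : ∀ q : N', IsAddUnit q → q = 0 := by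
    intro q hq
    obtain ⟨q', hqq'⟩ := hq.exists_neg
    obtain ⟨x, hx⟩ := AddSubmonoid.closure_le.mpr hDN q.2
    obtain ⟨y, hy⟩ := AddSubmonoid.closure_le.mpr hDN q'.2
    apply Subtype.ext
    rw [AddSubmonoid.coe_zero, ← hx]
    have h : π (x + y) = 0 := by rw [map_add, hx, hy]; exact congrArg Subtype.val hqq'
    change ((x : M) : M ⧸ Z) = 0
    exact (QuotientAddGroup.eq_zero_iff _).mpr (hZN x y ((QuotientAddGroup.eq_zero_iff _).mp h))
  -- all degrees occurring lie in `N'`
  let ι' : N' →+ M ⧸ Z := N'.subtype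
  have hι : Function.Injective (MonoidAlgebra.mapDomainRingHom B (AddMonoidHom.toMultiplicative ι')) :=
    MonoidAlgebra.mapDomain_injective fun a b h => Multiplicative.toAdd.injective
      (N'.subtype_injective (congrArg Multiplicative.toAdd h))
  have hmemN' : ∀ b, τQ b ∈ (MonoidAlgebra.mapDomainRingHom B (AddMonoidHom.toMultiplicative ι')).range := by
    intro b
    have hb : b ∈ Algebra.adjoin R (t : Set B) := ht ▸ Algebra.mem_top
    induction hb using Algebra.adjoin_induction with
    | mem x hx =>
      have hdec : τQ x = ∑ q ∈ (τQ x).coeff.support, MonoidAlgebra.single q ((τQ x).coeff q) := by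
        apply MonoidAlgebra.coeff_injective
        conv_lhs => rw [← Finsupp.sum_single (τQ x).coeff]
        simp [Finsupp.sum]
      rw [hdec]
      refine Subring.sum_mem _ fun q hq => ?_
      have hq' : Multiplicative.toAdd q ∈ N' :=
        AddSubmonoid.subset_closure (Finset.mem_biUnion.mpr ⟨x, hx, Finset.mem_image_of_mem _ hq⟩)
      exact ⟨MonoidAlgebra.single (Multiplicative.ofAdd ⟨_, hq'⟩) ((τQ x).coeff q), by simp [ι']⟩
    | algebraMap r =>
      exact ⟨MonoidAlgebra.single 1 (algebraMap R B r), by simp [τQ, hR]⟩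
    | add x y _ _ hx hy => rw [map_add]; exact add_mem hx hy
    | mul x y _ _ hx hy => rw [map_mul]; exact mul_mem hx hy
  choose up hup using hmemN'
  let τ' : B →+* MonoidAlgebra B (Multiplicative N') :=
    { toFun := up
      map_one' := hι (by rw [hup, map_one, map_one])
      map_mul' := fun x y => hι (by rw [hup, map_mul, map_mul, hup, hup])
      map_zero' := hι (by rw [hup, map_zero, map_zero])
      map_add' := fun x y => hι (by rw [hup, map_add, map_add, hup, hup]) }
  have hτ' : ∀ b, MonoidAlgebra.mapDomainRingHom B (AddMonoidHom.toMultiplicative ι') (τ' b) = τQ b := hup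
  -- the grading
  let 𝒜 : N' → Submodule R B := fun q =>
    { carrier := {b | τ' b = MonoidAlgebra.single (Multiplicative.ofAdd q) b}
      add_mem' := fun {x y} (hx : τ' x = _) (hy : τ' y = _) => by
        show τ' (x + y) = _
        rw [map_add, hx, hy, MonoidAlgebra.single_add]
      zero_mem' := by show τ' 0 = _; rw [map_zero, MonoidAlgebra.single_zero]
      smul_mem' := fun r x (hx : τ' x = _) => by
        show τ' (r • x) = _
        have hr : τ' (algebraMap R B r) = MonoidAlgebra.single 1 (algebraMap R B r) := hι (by simp [hτ', τQ, hR])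
        rw [Algebra.smul_def, map_mul, hx, hr, MonoidAlgebra.single_mul_single, _root_.one_mul] }
  have hcoeff : ∀ b q, (τ' b).coeff q = (τQ b).coeff (AddMonoidHom.toMultiplicative ι' q) := fun b q => by
    rw [← hτ']
    exact (Finsupp.mapDomain_apply (fun a b h => Multiplicative.toAdd.injective
      (N'.subtype_injective (congrArg Multiplicative.toAdd h))) _ _).symm
  have hQQ : ∀ b q, τQ ((τQ b).coeff q) = MonoidAlgebra.single q ((τQ b).coeff q) := by
    intro b q
    have hs : (τQ b).coeff q = ∑ n ∈ (τ b).coeff.support,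
        if AddMonoidHom.toMultiplicative π n = q then (τ b).coeff n else 0 := by
      change Finsupp.mapDomain (AddMonoidHom.toMultiplicative π) (τ b).coeff q = _
      simp [Finsupp.mapDomain, Finsupp.sum, Finsupp.single_apply]
    rw [hs, map_sum, show ∀ (g : Multiplicative N → B), (MonoidAlgebra.single q (∑ n ∈ (τ b).coeff.support, g n)) = ∑ n ∈ (τ b).coeff.support, MonoidAlgebra.single q (g n) from fun g => map_sum (MonoidAlgebra.singleAddHom q) g _]
    refine Finset.sum_congr rfl fun n _ => ?_
    split_ifs with h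
    · simp [τQ, hcoassoc, ← h]
    · simp
  have hhom : ∀ b q, (τ' b).coeff q ∈ 𝒜 (Multiplicative.toAdd q) := fun b q => by
    apply hι
    rw [hτ', hcoeff, hQQ]
    simp [ι']
  have hsum : ∀ b, ((τ' b).coeff.sum fun _ x => x) = b := fun b => by
    have h1 : (MonoidAlgebra.liftNCRingHom (RingHom.id B) (1 : Multiplicative N' →* B) (fun _ _ => Commute.all _ _)) (τ' b) =
        (MonoidAlgebra.liftNCRingHom (RingHom.id B) (1 : Multiplicative (M ⧸ Z) →* B) (fun _ _ => Commute.all _ _)) (τQ b) := by
      rw [← hτ']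
      refine RingHom.congr_fun (?_ : _ = (MonoidAlgebra.liftNCRingHom (RingHom.id B)
        (1 : Multiplicative (M ⧸ Z) →* B) (fun _ _ => Commute.all _ _)).comp
          (MonoidAlgebra.mapDomainRingHom B (AddMonoidHom.toMultiplicative ι'))) (τ' b)
      exact MonoidAlgebra.ringHom_ext (fun r => by simp) (fun n => by simp)
    have h2 : (MonoidAlgebra.liftNCRingHom (RingHom.id B) (1 : Multiplicative (M ⧸ Z) →* B) (fun _ _ => Commute.all _ _)) (τQ b) = b := by
      conv_rhs => rw [show b = (MonoidAlgebra.liftNCRingHom (RingHom.id B) (1 : Multiplicative N →* B)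
        (fun _ _ => Commute.all _ _)) (τ b) from (RingHom.congr_fun hcounit b).symm]
      refine RingHom.congr_fun (?_ : ((MonoidAlgebra.liftNCRingHom (RingHom.id B) (1 : Multiplicative (M ⧸ Z) →* B)
        (fun _ _ => Commute.all _ _)).comp (MonoidAlgebra.mapDomainRingHom B (AddMonoidHom.toMultiplicative π))) = _) (τ b)
      exact MonoidAlgebra.ringHom_ext (fun r => by simp) (fun n => by simp)
    refine Eq.trans ?_ (h1.trans h2)
    conv_rhs => rw [show τ' b = ∑ q ∈ (τ' b).coeff.support, MonoidAlgebra.single q ((τ' b).coeff q) from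
      MonoidAlgebra.coeff_injective (by conv_lhs => rw [← Finsupp.sum_single (τ' b).coeff]
                                        simp [Finsupp.sum])]
    simp [Finsupp.sum]
  haveI : SetLike.GradedMonoid 𝒜 :=
    { one_mem := by show τ' 1 = _; rw [map_one]; rfl
      mul_mem := fun {i j x y} (hx : τ' x = _) (hy : τ' y = _) => by
        show τ' (x * y) = _
        rw [map_mul, hx, hy, MonoidAlgebra.single_mul_single]
        rfl }
  have hcomp : ∀ b q, (((∑ k ∈ (τ' b).coeff.support,
      DirectSum.of (fun q => 𝒜 q) (Multiplicative.toAdd k) ⟨(τ' b).coeff k, hhom b k⟩ : ⨁ q, 𝒜 q) q : 𝒜 q) : B) =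
        (τ' b).coeff (Multiplicative.ofAdd q) := fun b q => by
    rw [DFinsupp.finsetSum_apply, AddSubmonoidClass.coe_finsetSum]
    refine (Finset.sum_congr rfl fun k _ => DirectSum.coe_of_apply (A := 𝒜) _ _ _).trans ?_
    rw [Finset.sum_eq_single (Multiplicative.ofAdd q)]
    · simp
    · intro k _ hk
      rw [if_neg]; · rfl
      intro h
      exact hk (by simp [← h])
    · intro h
      simp [Finsupp.notMem_support_iff.mp h]
  let dec : B →ₗ[R] ⨁ q, 𝒜 q :=
    { toFun := fun b => ∑ k ∈ (τ' b).coeff.support,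
        DirectSum.of (fun q => 𝒜 q) (Multiplicative.toAdd k) ⟨(τ' b).coeff k, hhom b k⟩
      map_add' := fun x y => by
        ext q
        rw [DirectSum.add_apply, Submodule.coe_add, hcomp, hcomp, hcomp, map_add, MonoidAlgebra.coeff_add,
          Finsupp.add_apply]
      map_smul' := fun r x => by
        ext q
        have hr : τ' (algebraMap R B r) = MonoidAlgebra.single 1 (algebraMap R B r) := hι (by simp [hτ', τQ, hR])
        rw [RingHom.id_apply, DFinsupp.smul_apply, Submodule.coe_smul, hcomp, hcomp, Algebra.smul_def, map_mul, hr,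
          MonoidAlgebra.single_one_mul_apply, Algebra.smul_def] }
  letI : DirectSum.Decomposition 𝒜 := DirectSum.Decomposition.ofLinearMap 𝒜 dec
    (by
      ext b
      simp only [LinearMap.comp_apply, LinearMap.id_apply]
      change DirectSum.coeLinearMap 𝒜 (∑ q ∈ _, _) = b
      rw [map_sum]
      simp only [DirectSum.coeLinearMap_of]
      exact hsum b)
    (by
      refine DirectSum.linearMap_ext R fun q => LinearMap.ext fun x => ?_
      simp only [LinearMap.comp_apply, LinearMap.id_apply, DirectSum.lof_eq_of, DirectSum.coeLinearMap_of]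
      ext r
      have hx : τ' (x : B) = MonoidAlgebra.single (Multiplicative.ofAdd q) (x : B) := x.2
      change (((∑ k ∈ (τ' x).coeff.support, _) : ⨁ q, 𝒜 q) r : B) = _
      rw [hcomp, hx, DirectSum.coe_of_apply, MonoidAlgebra.coeff_single, Finsupp.single_apply]
      simp [apply_ite Subtype.val])
  letI : GradedAlgebra 𝒜 := { }
  have hpr : ∀ b q, pr 𝒜 q b = (τ' b).coeff (Multiplicative.ofAdd q) := fun b q => hcomp b q
  have hε : ∀ b, algebraMap B₀ B (σ b) = pr 𝒜 0 b := by
    intro b
    rw [hvert, hpr, hcoeff]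
    have : ∀ v : MonoidAlgebra B (Multiplicative N),
        MonoidAlgebra.liftNCRingHom (RingHom.id B) (MagnetHom.vertexChar N B) (fun _ _ => Commute.all _ _) v =
          (MonoidAlgebra.mapDomainRingHom B (AddMonoidHom.toMultiplicative π) v).coeff 1 := by
      intro v
      induction v using MonoidAlgebra.induction_linear with
      | zero => simp
      | add x y hx hy => rw [map_add, map_add, MonoidAlgebra.coeff_add, Finsupp.add_apply, hx, hy]
      | single n c =>
        obtain ⟨n, rfl⟩ := Multiplicative.ofAdd.surjective n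
        by_cases h : -(n : M) ∈ N
        · simp [MagnetHom.vertexChar_apply_unit N B n h, (hker n).mpr h]
        · simp [MagnetHom.vertexChar_apply_nonunit N B n h,
            Finsupp.single_eq_of_ne (show (1 : Multiplicative (M ⧸ Z)) ≠ Multiplicative.ofAdd (π n) from
              fun e => h ((hker n).mp e.symm))]
    rw [this]
    rfl
  have hmem : ∀ c, algebraMap B₀ B c ∈ 𝒜 0 := fun c => by
    rw [show algebraMap B₀ B c = pr 𝒜 0 (algebraMap B₀ B c) from (congrArg (algebraMap B₀ B) (σ.commutes c).symm).trans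
      (hε _)]
    exact pr_mem 𝒜 0 _
  haveI : Algebra.FiniteType R B₀ := DiagMonSym.finiteType_base σ
  haveI : Algebra.FinitePresentation B₀ B := Algebra.FinitePresentation.of_restrict_scalars_finitePresentation R B₀ B
  haveI := DiagMonSym.finite_cotangent σ
  haveI := DiagMonSym.projective_cotangent (R := R) σ
  obtain ⟨s, hs, hsec, hgen⟩ := exists_lift hsharp 𝒜 hmem σ hε
  exact ⟨(DiagMonSym.aug σ).Cotangent, inferInstance, inferInstance, inferInstance, inferInstance,
    ⟨(AlgEquiv.ofBijective _ (DiagMonSym.bijective_lift (R := R) σ s hs hsec hgen)).symm⟩⟩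

end Groth.Agent.MagnetVB

end
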