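import Mathlib
import Groth.Prelude.Def_Magnet4
import Groth.Agent.MagnetVB.Coaction
import Groth.Agent.MagnetVB.Coalg
import Groth.Agent.S18233

/-!
The face projection `X^N ⟶ X^{N*}` of a smooth scheme is locally a vector bundle.
-/

set_option autoImplicit false
set_option backward.isDefEq.respectTransparency false
set_option backward.isDefEq.respectTransparency.types false
universe u

open CategoryTheory CategoryTheory.Limits MonoidalCategory CartesianMonoidalCategory MonObj AlgebraicGeometry Opposite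

namespace Groth.Agent.MagnetVB

open Groth.Agent.MagnetHom

noncomputable section

attribute [-instance] AlgebraicGeometry.instGrpObjSpecAsOverSpec AlgebraicGeometry.instCommGrpObjSpecAsOverSpec

variable {S : Scheme.{u}} {M : Type} [AddCommGroup M] {X : Over S} (a : Magnet.MonAct (Magnet.AMonS S M) X)

theorem smooth_rep [AddGroup.FG M] [Smooth X.hom] (N : AddSubmonoid M) {Z : Over S}
    (e : (Magnet.attr a N).RepresentableBy Z) : Smooth Z.hom := by
  let t : Magnet.MonAct (Magnet.AMonS S M) (𝟙_ (Over S)) := Magnet.MonAct.trivial _ _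
  have ht : Magnet.MonAct.IsEquivariant a t (toUnit X) := toUnit_unique _ _
  haveI : Smooth (toUnit X).left := by
    have : (toUnit X).left = X.hom := (Category.comp_id _).symm.trans (Over.w (toUnit X))
    rw [this]
    infer_instance
  let et : (Magnet.attr t N).RepresentableBy (𝟙_ (Over S)) :=
    { homEquiv := fun {T} =>
        { toFun := fun _ => ⟨toUnit _, toUnit_unique _ _⟩
          invFun := fun _ => toUnit T
          left_inv := fun _ => toUnit_unique _ _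
          right_inv := fun _ => Subtype.ext (toUnit_unique _ _) }
      homEquiv_comp := fun _ _ => Subtype.ext (toUnit_unique _ _) }
  have h := Groth.Agent.S18233.result S M N a t (toUnit X) ht e et (toUnit Z) (fun T z => Subtype.ext (toUnit_unique _ _))
  have : (toUnit Z).left = Z.hom := (Category.comp_id _).symm.trans (Over.w (toUnit Z))
  rwa [this] at h

theorem vertexOf_group {F : AddSubmonoid M} (hF : ∀ n ∈ F, -n ∈ F) {T : Over S} (φ : (Magnet.attr a F).obj (op T)) :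
    vertexOf a F φ = (Magnet.attrToX a F).app (op T) φ := by
  rw [Magnet.MonAct.eqvHom.evalAt_app, vertexOf, ← Hom.one_def]
  congr 2
  refine hom_ext_pts fun C _ str r => ?_
  rw [← Category.assoc, comp_toUnit, toUnit_vertex, MonObj.comp_one, ← MagnetHom.pt_one]
  congr 1
  ext n
  exact vertexChar_apply_unit F C n (hF _ n.2)

theorem neg_mem_unitFace {N : AddSubmonoid M} {n : M} (hn : n ∈ Magnet.unitFace N) : -n ∈ Magnet.unitFace N := by
  obtain ⟨hn, y, hy, hy'⟩ := hn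
  rw [neg_eq_of_add_eq_zero_right hy']
  exact ⟨hy, n, hn, by rw [add_comm]; exact hy'⟩

theorem isAffineOpen_inter {Z : Scheme.{u}} (g : Z ⟶ S) (O : Z.Opens) [IsAffineHom (O.ι ≫ g)] {S₀ : S.Opens}
    (hS₀ : IsAffineOpen S₀) : IsAffineOpen (O ⊓ g ⁻¹ᵁ S₀) := by
  have h := (IsAffineHom.isAffine_preimage (f := O.ι ≫ g) S₀ hS₀).image_of_isOpenImmersion O.ι
  rwa [show (O.ι ≫ g) ⁻¹ᵁ S₀ = O.ι ⁻¹ᵁ g ⁻¹ᵁ S₀ from rfl, Scheme.Hom.image_preimage_eq_opensRange_inf,
    Scheme.Opens.opensRange_ι] at h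

variable (N : AddSubmonoid M)

theorem exists_vectorBundle [AddGroup.FG M] [Smooth X.hom]
    {ZN Z₀ : Over S} (eN : (Magnet.attr a N).RepresentableBy ZN)
    (e₀ : (Magnet.attr a (Magnet.unitFace N)).RepresentableBy Z₀) (j : ZN ⟶ Z₀)
    (hj : ∀ (T : Over S) (z : T ⟶ ZN),
      e₀.homEquiv (z ≫ j) = (Magnet.attrFace a (Magnet.isFace_unitFace N)).app (op T) (eN.homEquiv z))
    (hlin : ∀ x : X.left, ∃ V : X.left.Opens, x ∈ V ∧ IsAffineHom (V.ι ≫ X.hom) ∧
      (CartesianMonoidalCategory.snd (Magnet.AMonS S M) X).left ⁻¹ᵁ V ≤ a.act.left ⁻¹ᵁ V) (z : Z₀.left) :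
    ∃ (W : Z₀.left.Opens) (hW : IsAffineOpen W), z ∈ W ∧
      ∃ (P : Type u) (_ : AddCommGroup P) (_ : Module Γ(Z₀.left, W) P),
        Module.Finite Γ(Z₀.left, W) P ∧ Module.Projective Γ(Z₀.left, W) P ∧
        ∃ e : (↑(j.left ⁻¹ᵁ W) : Scheme.{u}) ≅ Spec (CommRingCat.of (SymmetricAlgebra Γ(Z₀.left, W) P)),
          e.hom ≫ Spec.map (CommRingCat.ofHom (algebraMap Γ(Z₀.left, W) (SymmetricAlgebra Γ(Z₀.left, W) P))) =
            (j.left ∣_ W) ≫ hW.isoSpec.hom := by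
  let F := Magnet.unitFace N
  let hF := Magnet.isFace_unitFace N
  let v : ZN ⟶ X := vertexOf a N (eN.homEquiv (𝟙 ZN))
  let v₀ : Z₀ ⟶ X := (Magnet.attrToX a F).app (op Z₀) (e₀.homEquiv (𝟙 Z₀))
  have hv : ∀ {T : Over S} (t : T ⟶ ZN), t ≫ v = vertexOf a N (eN.homEquiv t) := fun {T} t => by
    rw [← vertexOf_map, ← eN.homEquiv_comp, Category.comp_id]
  have hjv : j ≫ v₀ = v := by
    rw [← attrToX_map, ← e₀.homEquiv_comp, Category.comp_id]
    conv_lhs => rw [← Category.id_comp j, hj]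
    exact (vertexOf_eq a N _).symm
  let s : Z₀ ⟶ ZN := eN.homEquiv.symm ((Magnet.attrMap a hF.le).app (op Z₀) (e₀.homEquiv (𝟙 Z₀)))
  have hs : ∀ {T : Over S} (w : T ⟶ Z₀), eN.homEquiv (w ≫ s) = (Magnet.attrMap a hF.le).app (op T) (e₀.homEquiv w) := by
    intro T w
    rw [eN.homEquiv_comp, Equiv.apply_symm_apply, e₀.homEquiv_eq w]
    exact (NatTrans.naturality_apply (Magnet.attrMap a hF.le) w.op _).symm
  have hsj : s ≫ j = 𝟙 Z₀ := by
    apply e₀.homEquiv.injective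
    rw [hj, ← Category.id_comp s, hs]
    exact ConcreteCategory.congr_hom (congr_app (Magnet.attrMap_comp_attrFace a hF) (op Z₀)) (e₀.homEquiv (𝟙 Z₀))
  obtain ⟨V, hzV, hVa, hVs⟩ := hlin (v₀.left z)
  obtain ⟨_, ⟨S₀, hS₀, rfl⟩, hzS, -⟩ := S.isBasis_affineOpens.exists_subset_of_mem_open
    (Set.mem_univ (Z₀.hom z)) isOpen_univ
  let O₀ := v₀.left ⁻¹ᵁ V
  let W := O₀ ⊓ Z₀.hom ⁻¹ᵁ S₀
  haveI : IsAffineHom (O₀.ι ≫ Z₀.hom) := by
    have h := isAffineHom_vertex_preimage a F V hVa hVs e₀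
    rwa [vertexOf_group a (fun n hn => neg_mem_unitFace hn)] at h
  have hW : IsAffineOpen W := isAffineOpen_inter Z₀.hom O₀ hS₀
  let O := j.left ⁻¹ᵁ W
  haveI : IsAffineHom ((v.left ⁻¹ᵁ V).ι ≫ ZN.hom) := isAffineHom_vertex_preimage a N V hVa hVs eN
  have hOeq : O = v.left ⁻¹ᵁ V ⊓ ZN.hom ⁻¹ᵁ S₀ := by
    rw [← hjv, ← Over.w j]
    rfl
  have hO : IsAffineOpen O := hOeq ▸ isAffineOpen_inter ZN.hom (v.left ⁻¹ᵁ V) hS₀
  have hinv : ∀ {T : Over S} (q : T ⟶ Magnet.AMonS S N) (z : T ⟶ ZN), (∀ t, z.left t ∈ O) →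
      ∀ t, (eN.homEquiv.symm (translate a N q (eN.homEquiv z))).left t ∈ O := by
    intro T q z hz t
    let z' := eN.homEquiv.symm (translate a N q (eN.homEquiv z))
    rw [hOeq]
    have hz' : ∀ t, z.left t ∈ v.left ⁻¹ᵁ V ⊓ ZN.hom ⁻¹ᵁ S₀ := fun t => hOeq ▸ hz t
    refine ⟨?_, ?_⟩
    · change v.left (z'.left t) ∈ V
      rw [← Scheme.Hom.comp_apply, ← Over.comp_left, hv, Equiv.apply_symm_apply]
      have hr := range_of_vertexOf a N V hVs (eN.homEquiv z) fun t => by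
        rw [← hv, Over.comp_left, Scheme.Hom.comp_apply]
        exact (hz' t).1
      rw [vertexOf, translate, ← Category.assoc, Over.comp_left, Scheme.Hom.comp_apply]
      exact hr _
    · change ZN.hom (z'.left t) ∈ S₀
      rw [← Scheme.Hom.comp_apply, Over.w z', ← Over.w z, Scheme.Hom.comp_apply]
      exact (hz' t).2
  obtain ⟨τ, hτ⟩ := exists_coaction a N eN hO hinv
  have leN : O ≤ ZN.hom ⁻¹ᵁ S₀ := by rw [hOeq]; exact inf_le_right
  have le₀ : W ≤ Z₀.hom ⁻¹ᵁ S₀ := inf_le_right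
  have les : W ≤ s.left ⁻¹ᵁ O := by
    change W ≤ (s ≫ j).left ⁻¹ᵁ W
    rw [hsj]
    exact le_rfl
  let iR : CommRingCat.of Γ(S, S₀) ⟶ CommRingCat.of Γ(ZN.left, O) := ZN.hom.appLE S₀ O leN
  let i : Γ(Z₀.left, W) ⟶ Γ(ZN.left, O) := j.left.appLE W O le_rfl
  let σ₀ : Γ(ZN.left, O) ⟶ Γ(Z₀.left, W) := s.left.appLE O W les
  have hi : Spec.map i ≫ hW.fromSpec = hO.fromSpec ≫ j.left := IsAffineOpen.SpecMap_appLE_fromSpec j.left hW hO le_rfl
  have hσ₀ : Spec.map σ₀ ≫ hO.fromSpec = hW.fromSpec ≫ s.left := IsAffineOpen.SpecMap_appLE_fromSpec s.left hO hW les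
  letI algR : Algebra Γ(S, S₀) Γ(ZN.left, O) := (ZN.hom.appLE S₀ O leN).hom.toAlgebra
  letI alg₀ : Algebra Γ(S, S₀) Γ(Z₀.left, W) := (Z₀.hom.appLE S₀ W le₀).hom.toAlgebra
  letI algB : Algebra Γ(Z₀.left, W) Γ(ZN.left, O) := i.hom.toAlgebra
  haveI : IsScalarTower Γ(S, S₀) Γ(Z₀.left, W) Γ(ZN.left, O) := IsScalarTower.of_algebraMap_eq' (by
    change (ZN.hom.appLE S₀ O leN).hom = (Z₀.hom.appLE S₀ W le₀ ≫ i).hom
    congr 1
    apply Spec.map_injective
    rw [← cancel_mono hS₀.fromSpec, Spec.map_comp, Category.assoc, IsAffineOpen.SpecMap_appLE_fromSpec,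
      IsAffineOpen.SpecMap_appLE_fromSpec (hV := hW), reassoc_of% hi, Over.w j])
  haveI : Smooth ZN.hom := smooth_rep a N eN
  have hsm : (ZN.hom.appLE S₀ O leN).hom.Smooth := HasRingHomProperty.appLE @Smooth ZN.hom inferInstance ⟨S₀, hS₀⟩ ⟨O, hO⟩ leN
  haveI : Algebra.Smooth Γ(S, S₀) Γ(ZN.left, O) := by
    simpa [RingHom.Smooth] using hsm
  let σ : Γ(ZN.left, O) →ₐ[Γ(Z₀.left, W)] Γ(Z₀.left, W) :=
    { σ₀.hom with
      commutes' := fun c => by
        change (i ≫ σ₀).hom c = c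
        have : i ≫ σ₀ = 𝟙 _ := by
          apply Spec.map_injective
          rw [← cancel_mono hW.fromSpec, Spec.map_comp, Category.assoc, hi, reassoc_of% hσ₀, ← Over.comp_left, hsj,
            Over.id_left, Category.comp_id, Spec.map_id, Category.id_comp]
        rw [this]
        rfl }
  have hvert : ∀ b, algebraMap Γ(Z₀.left, W) Γ(ZN.left, O) (σ b) =
      MonoidAlgebra.liftNCRingHom (RingHom.id Γ(ZN.left, O)) (vertexChar N Γ(ZN.left, O))
        (fun _ _ => Commute.all _ _) (τ b) := by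
    intro b
    refine vertex_eq a N eN hO hτ (j ≫ s) ?_ (i.hom.comp σ₀.hom) ?_ b
    · rw [hs, translate_vertex, ← hj, Category.id_comp]
    · change _ = Spec.map (σ₀ ≫ i) ≫ hO.fromSpec
      rw [Spec.map_comp, Category.assoc, hσ₀, reassoc_of% hi, Over.comp_left]
  let ZS : AddSubgroup M :=
    { Magnet.unitFace N with neg_mem' := fun h => neg_mem_unitFace h }
  have hZS : ∀ m, m ∈ ZS ↔ m ∈ N ∧ -m ∈ N := fun m => by
    change m ∈ Magnet.unitFace N ↔ _
    refine ⟨fun h => ⟨h.1, (neg_mem_unitFace h).1⟩, fun h => ⟨h.1, -m, h.2, add_neg_cancel m⟩⟩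
  obtain ⟨P, iP, mP, hfin, hproj, ⟨ψ⟩⟩ := exists_symmetricAlgebra N ZS hZS τ (counit a N eN hO hτ) (coassoc a N eN hO hτ)
    (fun r => base_eq a N eN hO hτ hS₀ leN r) σ hvert
  refine ⟨W, hW, ⟨hzV, hzS⟩, P, iP, mP, hfin, hproj, hO.isoSpec ≪≫ Scheme.Spec.mapIso ψ.toRingEquiv.toCommRingCatIso.symm.op, ?_⟩
  have hψ : CommRingCat.ofHom (algebraMap Γ(Z₀.left, W) (SymmetricAlgebra Γ(Z₀.left, W) P)) ≫ ψ.toRingEquiv.toCommRingCatIso.inv = i :=
    CommRingCat.hom_ext (RingHom.ext fun c => ψ.symm.commutes c)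
  change (hO.isoSpec.hom ≫ Spec.map ψ.toRingEquiv.toCommRingCatIso.inv) ≫ Spec.map _ = _
  rw [Category.assoc, ← Spec.map_comp, hψ, ← cancel_mono hW.fromSpec, Category.assoc, Category.assoc, hi,
    IsAffineOpen.isoSpec_hom_fromSpec, morphismRestrict_ι, IsAffineOpen.isoSpec_hom_fromSpec_assoc]

end

end Groth.Agent.MagnetVB
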